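import Cfsg.Agent.LyExist36.KTable

/-!
Kernel checks on packed matrices for the existence of the Lyons group.
-/

set_option autoImplicit false
set_option maxRecDepth 100000
set_option Elab.async false

namespace CfsgLib.LyExist36

open CfsgLib.LyRep96

theorem def10 : eqT [10] [0, 0, 0, 0, 7, 4, 8, 8, 0, 7, 4, 0, 0, 0, 0, 5, 6, 1, 9, 9, 5, 6] = true := by
  decide +kernel

theorem def11 : eqT [11] [0, 0, 0, 0, 8, 9, 5, 8, 2, 6, 5, 0, 0, 0, 0, 4, 7, 3, 9, 4, 8, 9] = true := by
  decide +kernel

theorem def12 : eqT [12] (List.replicate 6 10) = true := by decide +kernel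

theorem def13 : eqT [13] ([4, 7, 3, 9, 4, 8, 9] ++ List.replicate 12 11) = true := by decide +kernel

theorem def14 : eqT [14, 13] [] = true := by decide +kernel

theorem def15 : eqT [15] [1, 14] = true := by decide +kernel

theorem def16 : eqT [16] (List.replicate 7 15) = true := by decide +kernel

theorem defConj : (List.range 8).all (fun i =>
    eqT (conjIdx.getD i [] ++ [17 + i]) (16 :: conjIdx.getD i [])) = true := by
  decide +kernel

theorem t_order : eqT (List.replicate 8 0) [] = true ∧ eqT (List.replicate 4 0) [] = false := by
  decide +kernel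

theorem x_comm : (List.range 9).all (fun i =>
    eqT [16 + i, 0, 0, 0, 0] [0, 0, 0, 0, 16 + i]) = true := by
  decide +kernel

/-- trivial modulo the central involution -/
def oneOrT (w : List ℕ) : Bool := eqT w [] || eqT w [0, 0, 0, 0]

theorem x_cube : (List.range 9).all (fun i => oneOrT [16 + i, 16 + i, 16 + i]) = true := by
  decide +kernel

/-- the products with one fixed left factor -/
def prodRow (i : ℕ) : Bool :=
  (List.range 9).all fun j => i == j || oneOrT [16 + i, 16 + j, 16 + i, 16 + j]

theorem x_prod0 : prodRow 0 = true := by decide +kernel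
theorem x_prod1 : prodRow 1 = true := by decide +kernel
theorem x_prod2 : prodRow 2 = true := by decide +kernel
theorem x_prod3 : prodRow 3 = true := by decide +kernel
theorem x_prod4 : prodRow 4 = true := by decide +kernel
theorem x_prod5 : prodRow 5 = true := by decide +kernel
theorem x_prod6 : prodRow 6 = true := by decide +kernel
theorem x_prod7 : prodRow 7 = true := by decide +kernel
theorem x_prod8 : prodRow 8 = true := by decide +kernel

theorem x_prod : (List.range 9).all (fun i => (List.range 9).all fun j =>
    i == j || oneOrT [16 + i, 16 + j, 16 + i, 16 + j]) = true := by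
  refine List.all_eq_true.mpr fun i hi => ?_
  show prodRow i = true
  rw [List.mem_range] at hi
  interval_cases i
  · exact x_prod0
  · exact x_prod1
  · exact x_prod2
  · exact x_prod3
  · exact x_prod4
  · exact x_prod5
  · exact x_prod6
  · exact x_prod7
  · exact x_prod8

theorem x_ne : eqT [16] [] = false ∧ eqT [16] [0, 0, 0, 0] = false := by decide +kernel

theorem s_in_coset : Nat.beq (runM kTab [8] oneS) (runM matL (hRep ++ gWord) oneS) = true := by
  decide +kernel

theorem k_images : (List.range 4).all (fun j =>
    Nat.beq (runM kTab [8, j, 8] oneS) (runM matL (kGens.getD j ([], [])).2 oneS)) = true := by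
  decide +kernel

/-- the inverse of an index word -/
def kInv (ids : List ℕ) : List ℕ := (ids.map fun j => if j < 4 then j + 4 else j - 4).reverse

theorem k_vecs : kIds.map (fun ids => runM kTab (ids ++ [8] ++ kInv ids) (B ^ 7)) = kVecs := by
  decide +kernel

/-- the list increases strictly -/
def incr : List ℕ → Bool
  | x :: y :: l => Nat.blt x y && incr (y :: l)
  | _ => true

theorem k_vecs_incr : incr kVecs = true := by decide +kernel

theorem k_card : kIds.length = 78 ∧ kGens.length = 4 := by decide +kernel

end CfsgLib.LyExist36
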