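import Cfsg.Prelude.Def_SporadicB
import Cfsg.Prelude.Def_Exceptional
import Cfsg.Prelude.Def_Sporadic
import Cfsg.Agent.AltPres54.Carmichael

/-!
The group-theoretic frame for the existence of the Lyons group as a permutation group with an
involution centraliser a double cover of the alternating group of degree 11.
-/

set_option autoImplicit false
set_option linter.style.haveILetI false

namespace CfsgLib.LyExist36

open Cfsg CfsgLib.AltPres54
open scoped Pointwise

/-- A centraliser is at most the index of a subgroup times the part of it in that subgroup. -/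
theorem card_centralizer_le {G : Type*} [Group G] [Finite G] (H : Subgroup G) (s : G) :
    Nat.card (Subgroup.centralizer ({s} : Set G)) ≤
      H.index * Nat.card (H ⊓ Subgroup.centralizer ({s} : Set G) : Subgroup G) := by
  set C := Subgroup.centralizer ({s} : Set G)
  have h1 := (H.subgroupOf C).index_mul_card
  have h2 : Nat.card (H.subgroupOf C) = Nat.card (H ⊓ C : Subgroup G) := by
    rw [← Subgroup.inf_subgroupOf_right H C]
    exact Nat.card_congr (Subgroup.subgroupOfEquivOfLe inf_le_right).toEquiv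
  have h3 : (H.subgroupOf C).index ≤ H.index := by
    refine Nat.le_of_not_gt fun hlt => ?_
    have := Subgroup.relIndex_top_right H
    have hle : H.relIndex C ≤ H.relIndex ⊤ :=
      Subgroup.relIndex_le_of_le_right le_top (by
        rw [Subgroup.relIndex_top_right]; exact Subgroup.index_ne_zero_of_finite)
    rw [this] at hle
    exact absurd hle (not_le.mpr hlt)
  rw [← h1, h2]
  exact Nat.mul_le_mul_right _ h3

/-- Carmichael generators modulo a central involution inside a small enough centraliser. -/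
theorem cover_of_gens {G : Type*} [Group G] [Finite G] {t : G} (ht : orderOf t = 2)
    (hG : Nat.card G = 51765179004000000) (x : Fin 11 → G)
    (hx : ∀ i, x i * t = t * x i) (h3 : ∀ i, i ≠ 0 → i ≠ 1 → x i ^ 3 ∈ Subgroup.zpowers t)
    (h2 : ∀ i j, i ≠ 0 → i ≠ 1 → j ≠ 0 → j ≠ 1 → i ≠ j → (x i * x j) ^ 2 ∈ Subgroup.zpowers t)
    (hne : x 2 ∉ Subgroup.zpowers t) (y : G) (hyt : y ^ 2 = t)
    (hle : Nat.card (Subgroup.centralizer ({t} : Set G)) < 119750400) :
    IsNonsplitDoubleCover (Subgroup.centralizer ({t} : Set G)) (alternatingGroup (Fin 11)) := by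
  classical
  set C := Subgroup.centralizer ({t} : Set G) with hC
  have htC : t ∈ C := Subgroup.mem_centralizer_singleton_iff.mpr rfl
  let t' : C := ⟨t, htC⟩
  have ht' : orderOf t' = 2 := (Subgroup.orderOf_coe t').symm.trans ht
  set Z := Subgroup.zpowers t' with hZ
  have hZ2 : Nat.card Z = 2 := by rw [hZ, Nat.card_zpowers, ht']
  have hZc : Z ≤ Subgroup.center C := by
    rw [hZ, Subgroup.zpowers_le, Subgroup.mem_center_iff]
    intro g
    exact Subtype.ext (Subgroup.mem_centralizer_singleton_iff.mp g.2)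
  haveI : Z.Normal := ⟨fun a ha g => by
    rw [show g * a * g⁻¹ = a from by
      rw [Subgroup.mem_center_iff.mp (hZc ha) g, mul_inv_cancel_right]]
    exact ha⟩
  have memZ : ∀ g : C, (g : G) ∈ Subgroup.zpowers t → g ∈ Z := by
    rintro g ⟨k, hk⟩
    exact ⟨k, Subtype.ext (by simpa using hk)⟩
  let x' : Fin 11 → C ⧸ Z := fun i =>
    QuotientGroup.mk' Z ⟨x i, Subgroup.mem_centralizer_singleton_iff.mpr (hx i)⟩
  obtain ⟨φ, hφ⟩ := exists_hom (α := Fin 11) (S := Finset.univ) (a := 0) (b := 1)
    (Finset.mem_univ _) (Finset.mem_univ _) (by decide) x'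
    (fun i _ h0 h1 => by
      show (QuotientGroup.mk' Z _) ^ 3 = 1
      rw [← map_pow]
      exact (QuotientGroup.eq_one_iff _).mpr (memZ _ (by simpa using h3 i h0 h1)))
    (fun i _ j _ h0 h1 k0 k1 hij => by
      show (QuotientGroup.mk' Z _ * QuotientGroup.mk' Z _) ^ 2 = 1
      rw [← map_mul, ← map_pow]
      exact (QuotientGroup.eq_one_iff _).mpr (memZ _ (by simpa using h2 i j h0 h1 k0 k1 hij)))
  haveI : IsSimpleGroup (alternatingGroup (Fin 11)) := alternatingGroup.isSimpleGroup (by simp)
  let ψ : alternatingGroup (Fin 11) →* C ⧸ Z :=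
    φ.comp (MulEquiv.subgroupCongr altOn_univ.symm).toMonoidHom
  have hψi : Function.Injective ψ := by
    rw [← MonoidHom.ker_eq_bot_iff]
    refine (Subgroup.Normal.eq_bot_or_eq_top (inferInstance : ψ.ker.Normal)).resolve_right fun h => ?_
    have hm : (⟨tri 0 1 2, sign_tri (by decide) (by decide)⟩ : alternatingGroup (Fin 11)) ∈ ψ.ker :=
      h ▸ Subgroup.mem_top _
    have h1 : φ ⟨tri 0 1 2, tri_mem_altOn (Finset.mem_univ _) (Finset.mem_univ _)
        (Finset.mem_univ _) (by decide) (by decide)⟩ = 1 := MonoidHom.mem_ker.mp hm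
    rw [hφ 2 (Finset.mem_univ _) (by decide) (by decide)] at h1
    obtain ⟨k, hk⟩ := (QuotientGroup.eq_one_iff _).mp h1
    exact hne ⟨k, by simpa [t'] using congrArg Subtype.val hk⟩
  have hA : Nat.card (alternatingGroup (Fin 11)) = 19958400 := by
    rw [Nat.card_eq_fintype_card, card_alternatingGroup]
    simp [Nat.factorial]
  have hcard : Nat.card C = Nat.card (C ⧸ Z) * 2 := by
    rw [Subgroup.card_eq_card_quotient_mul_card_subgroup Z, hZ2]
  have hq : Nat.card (C ⧸ Z) = 19958400 := by
    obtain ⟨c, hc⟩ := hA ▸ Subgroup.card_dvd_of_injective ψ hψi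
    have hdvd : Nat.card C ∣ 51765179004000000 := hG ▸ Subgroup.card_subgroup_dvd_card C
    have hpos : 0 < Nat.card (C ⧸ Z) := Nat.card_pos
    rw [hcard, hc] at hdvd hle
    have hc3 : c ≤ 2 := by omega
    interval_cases c
    · omega
    · rw [hc]
    · norm_num at hdvd
  have hψs : Function.Surjective ψ :=
    ((Nat.bijective_iff_injective_and_card ψ).mpr ⟨hψi, hA.trans hq.symm⟩).2
  let e : C ⧸ Z ≃* alternatingGroup (Fin 11) := (MulEquiv.ofBijective ψ ⟨hψi, hψs⟩).symm
  have hcen : Subgroup.center C = Z := by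
    refine le_antisymm (fun g hg => ?_) hZc
    have h1 : e (QuotientGroup.mk' Z g) ∈ Subgroup.center (alternatingGroup (Fin 11)) := by
      rw [Subgroup.mem_center_iff]
      intro b
      obtain ⟨a, rfl⟩ := e.surjective b
      obtain ⟨a, rfl⟩ := QuotientGroup.mk'_surjective Z a
      rw [← map_mul, ← map_mul, ← map_mul, ← map_mul, Subgroup.mem_center_iff.mp hg a]
    have hcA : Subgroup.center (alternatingGroup (Fin 11)) = ⊥ :=
      alternatingGroup.center_eq_bot (by simp)
    rw [hcA, Subgroup.mem_bot] at h1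
    exact (QuotientGroup.eq_one_iff g).mp (e.injective (by rw [map_one]; exact h1))
  refine ⟨by rw [hcen]; exact hZ2, ⟨(QuotientGroup.quotientMulEquivOfEq hcen).trans e⟩, fun L hL => ?_⟩
  rw [hcen] at hL
  have hyC : y ∈ C := Subgroup.mem_centralizer_singleton_iff.mpr (by rw [← hyt, ← pow_succ, ← pow_succ'])
  have hLi : L.index = 2 := by rw [hL.index_eq_card, hZ2]
  have h1 : t' ∈ L := by
    have := Subgroup.sq_mem_of_index_two hLi ⟨y, hyC⟩
    have heq : (⟨y, hyC⟩ : C) ^ 2 = t' := Subtype.ext (by simpa using hyt)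
    rwa [heq] at this
  have h2' : t' = 1 := Subgroup.mem_bot.mp (hL.disjoint.le_bot ⟨Subgroup.mem_zpowers t', h1⟩)
  rw [h2', orderOf_one] at ht'
  omega

/-- The centraliser in a subgroup is small when many conjugates are seen. -/
theorem card_inf_centralizer_le {G : Type*} [Group G] [Finite G] (H : Subgroup G) (s : G)
    {m l : ℕ} (hK : Nat.card (H ⊓ H.map (MulAut.conj s).toMonoidHom : Subgroup G) ≤ m)
    (k : Fin l → G) (hk : ∀ i, k i ∈ H ⊓ H.map (MulAut.conj s).toMonoidHom)
    (hd : Function.Injective fun i => k i * s * (k i)⁻¹) :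
    Nat.card (H ⊓ Subgroup.centralizer ({s} : Set G) : Subgroup G) * l ≤ m := by
  set K := H ⊓ H.map (MulAut.conj s).toMonoidHom with hKdef
  set D := H ⊓ Subgroup.centralizer ({s} : Set G) with hD
  have hDK : D ≤ K := fun h hh => ⟨hh.1, h, hh.1, by
    show s * h * s⁻¹ = h
    rw [← Subgroup.mem_centralizer_singleton_iff.mp hh.2, mul_inv_cancel_right]⟩
  refine le_trans ?_ hK
  rw [← (D.subgroupOf K).index_mul_card, Nat.card_congr (Subgroup.subgroupOfEquivOfLe hDK).toEquiv,
    mul_comm]
  refine Nat.mul_le_mul_right _ ?_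
  rw [Subgroup.index, ← Nat.card_fin l]
  refine Nat.card_le_card_of_injective (fun i => QuotientGroup.mk (⟨k i, hk i⟩ : K)) fun i j h => hd ?_
  have h1 := Subgroup.mem_centralizer_singleton_iff.mp
    (Subgroup.mem_inf.mp (Subgroup.mem_subgroupOf.mp (QuotientGroup.eq.mp h))).2
  show k i * s * (k i)⁻¹ = k j * s * (k j)⁻¹
  have h2 : (k i)⁻¹ * k j * s = s * ((k i)⁻¹ * k j) := h1
  calc k i * s * (k i)⁻¹ = k i * (s * ((k i)⁻¹ * k j)) * (k j)⁻¹ := by group
    _ = k i * ((k i)⁻¹ * k j * s) * (k j)⁻¹ := by rw [h2]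
    _ = k j * s * (k j)⁻¹ := by group

/-- From an abstract group to a permutation group on the cosets. -/
theorem exists_perm {G : Type*} [Group G] [Finite G] [IsSimpleGroup G] (H : Subgroup G) {n : ℕ}
    [NeZero n] (hn : H.index = n) (hn1 : n ≠ 1) :
    ∃ (P : Subgroup (Equiv.Perm (Fin n))) (e : G ≃* P), MulAction.IsPretransitive P (Fin n) ∧
      Nonempty (H ≃* MulAction.stabilizer P (0 : Fin n)) := by
  classical
  have hc : Nat.card (G ⧸ H) = n := hn
  let e₀ : G ⧸ H ≃ Fin n := (Finite.equivFin (G ⧸ H)).trans (finCongr hc)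
  let e : G ⧸ H ≃ Fin n := e₀.trans (Equiv.swap (e₀ (QuotientGroup.mk 1)) 0)
  have he0 : e (QuotientGroup.mk 1) = 0 := by simp [e]
  let f : G →* Equiv.Perm (Fin n) :=
    e.permCongrHom.toMonoidHom.comp (MulAction.toPermHom G (G ⧸ H))
  have happ : ∀ g i, f g i = e (g • e.symm i) := fun g i => rfl
  have hfix : ∀ g, f g 0 = 0 ↔ g ∈ H := by
    intro g
    have hs : e.symm 0 = QuotientGroup.mk 1 := by rw [← he0, e.symm_apply_apply]
    rw [happ, hs, ← he0, e.apply_eq_iff_eq]
    show (QuotientGroup.mk (g * 1) : G ⧸ H) = QuotientGroup.mk 1 ↔ g ∈ H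
    rw [mul_one, QuotientGroup.eq, mul_one, H.inv_mem_iff]
  have hinj : Function.Injective f := by
    rw [← MonoidHom.ker_eq_bot_iff]
    refine (Subgroup.Normal.eq_bot_or_eq_top (inferInstance : f.ker.Normal)).resolve_right fun h => ?_
    apply hn1
    rw [← hn, Subgroup.index_eq_one, eq_top_iff]
    intro g _
    refine (hfix g).mp ?_
    rw [MonoidHom.mem_ker.mp (h ▸ Subgroup.mem_top g)]
    rfl
  refine ⟨f.range, MonoidHom.ofInjective hinj, ⟨fun i j => ?_⟩, ⟨?_⟩⟩
  · obtain ⟨g, hg⟩ := MulAction.exists_smul_eq G (e.symm i) (e.symm j)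
    refine ⟨⟨f g, g, rfl⟩, ?_⟩
    show f g i = j
    rw [happ, hg, e.apply_symm_apply]
  · refine MulEquiv.ofBijective
      (((MonoidHom.ofInjective hinj).toMonoidHom.comp H.subtype).codRestrict _ fun g =>
        MulAction.mem_stabilizer_iff.mpr ((hfix g).mpr g.2)) ⟨fun a b hab => ?_, fun q => ?_⟩
    · exact Subtype.ext ((MonoidHom.ofInjective hinj).injective (congrArg Subtype.val hab))
    · obtain ⟨g, hg⟩ := (MonoidHom.ofInjective hinj).surjective q.1
      have hq := MulAction.mem_stabilizer_iff.mp q.2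
      rw [← hg] at hq
      exact ⟨⟨g, (hfix g).mp hq⟩, Subtype.ext hg⟩

theorem nonsplit_congr {X X' K : Type*} [Group X] [Group X'] [Group K] (e : X ≃* X')
    (h : IsNonsplitDoubleCover X K) : IsNonsplitDoubleCover X' K := by
  obtain ⟨h1, ⟨q⟩, h3⟩ := h
  have hm : (Subgroup.center X).map e.toMonoidHom = Subgroup.center X' := by
    ext x
    rw [Subgroup.mem_map_equiv, Subgroup.mem_center_iff, Subgroup.mem_center_iff]
    refine ⟨fun hx g => ?_, fun hx g => ?_⟩
    · exact e.symm.injective (by rw [map_mul, map_mul]; exact hx _)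
    · exact e.injective (by rw [map_mul, map_mul, e.apply_symm_apply]; exact hx _)
  refine ⟨?_, ⟨(QuotientGroup.congr _ _ e hm).symm.trans q⟩, fun L hL => ?_⟩
  · rw [← hm, Subgroup.card_map_of_injective (f := e.toMonoidHom) e.injective, h1]
  · refine h3 (L.map e.symm.toMonoidHom) ?_
    have hm' : (Subgroup.center X').map e.symm.toMonoidHom = Subgroup.center X := by
      rw [← hm, Subgroup.map_map]
      ext x
      simp
    rw [← hm']
    refine Subgroup.isComplement'_of_disjoint_and_mul_eq_univ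
      (Subgroup.disjoint_map (f := e.symm.toMonoidHom) e.symm.injective hL.disjoint) ?_
    ext x
    simp only [Set.mem_univ, iff_true]
    obtain ⟨a, ha, b, hb, hab⟩ : e x ∈ (Subgroup.center X' : Set X') * (L : Set X') := by
      rw [hL.mul_eq]; trivial
    exact ⟨e.symm a, Subgroup.mem_map_of_mem e.symm.toMonoidHom ha, e.symm b,
      Subgroup.mem_map_of_mem e.symm.toMonoidHom hb,
      by rw [← e.symm_apply_apply x, ← hab, map_mul]⟩

/-- A conjugate with small centraliser in the subgroup bounds the centraliser. -/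
theorem centralizer_small {G : Type*} [Group G] [Finite G] (H : Subgroup G)
    (hi : H.index = 8835156) {t : G} (s : G) (hs : IsConj s t)
    (hsH : Nat.card (H ⊓ Subgroup.centralizer ({s} : Set G) : Subgroup G) ≤ 13) :
    Nat.card (Subgroup.centralizer ({t} : Set G)) < 119750400 := by
  obtain ⟨c, hc⟩ := isConj_iff.mp hs
  have h1 := card_centralizer_le H s
  have h2' : Nat.card (Subgroup.centralizer ({t} : Set G)) =
      Nat.card (Subgroup.centralizer ({s} : Set G)) := by
    refine (Nat.card_congr ((MulAut.conj c).toEquiv.subtypeEquiv fun g => ?_)).symm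
    show g ∈ Subgroup.centralizer ({s} : Set G) ↔ c * g * c⁻¹ ∈ Subgroup.centralizer ({t} : Set G)
    rw [Subgroup.mem_centralizer_singleton_iff, Subgroup.mem_centralizer_singleton_iff, ← hc]
    constructor
    · intro h
      calc c * g * c⁻¹ * (c * s * c⁻¹) = c * (g * s) * c⁻¹ := by group
        _ = c * (s * g) * c⁻¹ := by rw [h]
        _ = c * s * c⁻¹ * (c * g * c⁻¹) := by group
    · intro h
      calc g * s = c⁻¹ * (c * g * c⁻¹ * (c * s * c⁻¹)) * c := by group
        _ = c⁻¹ * (c * s * c⁻¹ * (c * g * c⁻¹)) * c := by rw [h]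
        _ = s * g := by group
  rw [hi] at h1
  have h3' := Nat.mul_le_mul_left 8835156 hsH
  omega

/-- The existence statement from a group of the right order with the right data. -/
theorem exists_lyons {G : Type*} [Group G] [Finite G] [IsSimpleGroup G]
    (hG : Nat.card G = 51765179004000000) (H : Subgroup G) (hi : H.index = 8835156)
    (hH : IsSimpleGroup H) (hHc : Nat.card H = 5859000000) {t : G} (ht : orderOf t = 2)
    (x : Fin 11 → G) (hx : ∀ i, x i * t = t * x i)
    (h3 : ∀ i, i ≠ 0 → i ≠ 1 → x i ^ 3 ∈ Subgroup.zpowers t)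
    (h2 : ∀ i j, i ≠ 0 → i ≠ 1 → j ≠ 0 → j ≠ 1 → i ≠ j → (x i * x j) ^ 2 ∈ Subgroup.zpowers t)
    (hne : x 2 ∉ Subgroup.zpowers t) (y : G) (hyt : y ^ 2 = t)
    (s : G) (hs : IsConj s t)
    (hsH : Nat.card (H ⊓ Subgroup.centralizer ({s} : Set G) : Subgroup G) ≤ 13) :
    ∃ P : Subgroup (Equiv.Perm (Fin 8835156)), IsLy P ∧
      MulAction.IsPretransitive P (Fin 8835156) ∧
      IsG2 (MulAction.stabilizer P (0 : Fin 8835156)) ∧
      ∃ t : P, orderOf t = 2 ∧
        IsNonsplitDoubleCover (Subgroup.centralizer ({t} : Set P)) (alternatingGroup (Fin 11)) := by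
  have hle := centralizer_small H hi s hs hsH
  have hcov := cover_of_gens ht hG x hx h3 h2 hne y hyt hle
  obtain ⟨P, e, htr, ⟨eH⟩⟩ := exists_perm H hi (by norm_num)
  haveI : IsSimpleGroup P := e.symm.isSimpleGroup
  haveI := hH
  refine ⟨P, ⟨inferInstance, by rw [← Nat.card_congr e.toEquiv, hG]⟩, htr,
    ⟨eH.symm.isSimpleGroup, 5, (by norm_num : Nat.Prime 5).isPrimePow, by norm_num,
      by rw [← Nat.card_congr eH.toEquiv, hHc]; norm_num⟩, e t, by rw [MulEquiv.orderOf_eq, ht], ?_⟩
  refine nonsplit_congr ?_ hcov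
  refine
    { toFun := fun g => ⟨e g.1, ?_⟩
      invFun := fun g => ⟨e.symm g.1, ?_⟩
      left_inv := fun g => Subtype.ext (e.symm_apply_apply _)
      right_inv := fun g => Subtype.ext (e.apply_symm_apply _)
      map_mul' := fun g g' => Subtype.ext (map_mul e g.1 g'.1) }
  · rw [Subgroup.mem_centralizer_singleton_iff, ← map_mul, ← map_mul,
      Subgroup.mem_centralizer_singleton_iff.mp g.2]
  · rw [Subgroup.mem_centralizer_singleton_iff]
    apply e.injective
    rw [map_mul, map_mul, e.apply_symm_apply]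
    exact Subgroup.mem_centralizer_singleton_iff.mp g.2

end CfsgLib.LyExist36
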