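import Cfsg.Agent.LyExist36.Table
import Cfsg.Agent.LyExist36.Data2

/-!
Packed matrices for conjugating an involution by the generators of a stabiliser.
-/

set_option autoImplicit false
set_option maxRecDepth 100000
set_option Elab.async false

namespace CfsgLib.LyExist36

open CfsgLib.LyRep96
open scoped Matrix

/-- the matrices: four generators, their inverses, the involution -/
def kTab : ℕ → List ℕ
  | 0 => kMat0
  | 1 => kMat1
  | 2 => kMat2
  | 3 => kMat3
  | 4 => kMat4
  | 5 => kMat5
  | 6 => kMat6
  | 7 => kMat7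
  | _ => kMat8

/-- the words of the matrices -/
def kLetters (j : ℕ) : List ℕ :=
  if j < 4 then (kGens.getD j ([], [])).1
  else if j < 8 then iw (kGens.getD (j - 4) ([], [])).1 else sWord

/-- the elements of the matrices -/
def kVal (j : ℕ) : Cfsg.Spor.Ly := el (kLetters j)

theorem kTab_shapes : (List.range 9).all (fun x => shapeOK (kTab x)) = true := by
  decide +kernel

theorem kTab_shape (x : ℕ) : shapeOK (kTab x) = true := by
  rcases Nat.lt_or_ge x 9 with h | h
  · exact List.all_eq_true.mp kTab_shapes x (List.mem_range.mpr h)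
  · obtain ⟨n, rfl⟩ : ∃ n, x = n + 8 := ⟨x - 8, by omega⟩
    rw [show kTab (n + 8) = kTab 8 from rfl]
    exact List.all_eq_true.mp kTab_shapes 8 (List.mem_range.mpr (by norm_num))

theorem kDef0 : Nat.beq (runM kTab [0] oneS) (runM matL (kLetters 0) oneS) = true := by decide +kernel
theorem kDef1 : Nat.beq (runM kTab [1] oneS) (runM matL (kLetters 1) oneS) = true := by decide +kernel
theorem kDef2 : Nat.beq (runM kTab [2] oneS) (runM matL (kLetters 2) oneS) = true := by decide +kernel
theorem kDef3 : Nat.beq (runM kTab [3] oneS) (runM matL (kLetters 3) oneS) = true := by decide +kernel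
theorem kDef4 : Nat.beq (runM kTab [0, 4] oneS) oneS = true := by decide +kernel
theorem kDef5 : Nat.beq (runM kTab [1, 5] oneS) oneS = true := by decide +kernel
theorem kDef6 : Nat.beq (runM kTab [2, 6] oneS) oneS = true := by decide +kernel
theorem kDef7 : Nat.beq (runM kTab [3, 7] oneS) oneS = true := by decide +kernel
theorem kDef8 : Nat.beq (runM kTab [8] oneS) (runM matL sWord oneS) = true := by decide +kernel

theorem runK {w : List ℕ} (hw : ∀ x ∈ w, matOf (kTab x) = (rep (kVal x)).1) :
    runM kTab w oneS = packM (rep (w.map kVal).prod).1 := by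
  rw [← packM_one, runM_packM kTab kTab_shape, one_mul]
  congr 1
  induction w with
  | nil => simp
  | cons x w ih =>
    rw [List.map_cons, List.prod_cons, List.map_cons, List.prod_cons, map_mul, Units.val_mul,
      ih fun y hy => hw y (List.mem_cons_of_mem _ hy), hw x List.mem_cons_self]

theorem inv_of_mul {u : GL (Fin 111) (ZMod 5)} {P : Matrix (Fin 111) (Fin 111) (ZMod 5)}
    (h : u.1 * P = 1) : P = (u⁻¹ : GL (Fin 111) (ZMod 5)).1 := by
  calc P = u.inv * u.1 * P := by rw [u.inv_val, one_mul]
    _ = u.inv := by rw [Matrix.mul_assoc, h, mul_one]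

theorem kDirect (j : ℕ) (w : List ℕ)
    (h : Nat.beq (runM kTab [j] oneS) (runM matL w oneS) = true) (hv : kVal j = el w) :
    matOf (kTab j) = (rep (kVal j)).1 := by
  rw [Nat.beq_eq, ← packM_one, runM_packM kTab kTab_shape, runM_packM matL shape_all, one_mul,
    one_mul] at h
  have h1 := packM_inj h
  rw [List.map_singleton, List.prod_singleton] at h1
  rw [h1, hv]
  exact (rep_prod w).symm

theorem kInvert (j i : ℕ) (h : Nat.beq (runM kTab [j, i] oneS) oneS = true)
    (hg : matOf (kTab j) = (rep (kVal j)).1) (hv : kVal i = (kVal j)⁻¹) :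
    matOf (kTab i) = (rep (kVal i)).1 := by
  rw [Nat.beq_eq, ← packM_one, runM_packM kTab kTab_shape, one_mul] at h
  have h1 := packM_inj h
  rw [List.map_cons, List.map_singleton, List.prod_cons, List.prod_singleton, hg] at h1
  rw [hv, map_inv]
  exact inv_of_mul h1

theorem kLetters_lt : (List.range 4).all (fun j =>
    (kGens.getD j ([], [])).1.all fun x => Nat.blt x 78) = true := by decide +kernel

theorem kVal_inv (j : ℕ) (hj : j < 4) : kVal (j + 4) = (kVal j)⁻¹ := by
  unfold kVal kLetters
  rw [if_pos hj, if_neg (by omega), if_pos (by omega), Nat.add_sub_cancel]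
  exact el_iw _ (List.all_eq_true.mp kLetters_lt j (List.mem_range.mpr hj))

theorem kTab_ge (n : ℕ) : kTab (n + 8) = kMat8 := rfl

theorem kVal_ge (n : ℕ) : kVal (n + 8) = el sWord := by
  unfold kVal kLetters
  rw [if_neg (by omega), if_neg (by omega)]

theorem kVal_lt (j : ℕ) (hj : j < 4) : kVal j = el (kLetters j) := by unfold kVal; rfl

theorem kGood (x : ℕ) : matOf (kTab x) = (rep (kVal x)).1 := by
  have g0 := kDirect 0 _ kDef0 (kVal_lt 0 (by norm_num))
  have g1 := kDirect 1 _ kDef1 (kVal_lt 1 (by norm_num))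
  have g2 := kDirect 2 _ kDef2 (kVal_lt 2 (by norm_num))
  have g3 := kDirect 3 _ kDef3 (kVal_lt 3 (by norm_num))
  have g8 := kDirect 8 sWord kDef8 (kVal_ge 0)
  rcases Nat.lt_or_ge x 8 with h | h
  · interval_cases x
    · exact g0
    · exact g1
    · exact g2
    · exact g3
    · exact kInvert 0 4 kDef4 g0 (kVal_inv 0 (by norm_num))
    · exact kInvert 1 5 kDef5 g1 (kVal_inv 1 (by norm_num))
    · exact kInvert 2 6 kDef6 g2 (kVal_inv 2 (by norm_num))
    · exact kInvert 3 7 kDef7 g3 (kVal_inv 3 (by norm_num))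
  · obtain ⟨n, rfl⟩ : ∃ n, x = n + 8 := ⟨x - 8, by omega⟩
    rw [kTab_ge, kVal_ge, ← kVal_ge 0, ← kTab_ge 0]
    exact g8

/-- the vector evaluator on the stabiliser matrices -/
theorem runK_packV (w : List ℕ) (v : Fin 111 → ZMod 5) :
    runM kTab w (packV v) = packV (v ᵥ* (rep (w.map kVal).prod).1) := by
  have hp : (w.map fun x => matOf (kTab x)).prod = (rep (w.map kVal).prod).1 := by
    induction w with
    | nil => simp
    | cons x w ih => simp [ih, kGood x]
  rw [packV_eq, packV_eq, runM_packM kTab kTab_shape, hp]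
  refine congrArg packM (Matrix.ext fun i j => ?_)
  rw [Matrix.mul_apply]
  by_cases h : (i : ℕ) = 0
  · simp only [rowMat, Matrix.of_apply, h, if_true, Matrix.vecMul, dotProduct]
  · simp only [rowMat, Matrix.of_apply, h, if_false, zero_mul, Finset.sum_const_zero]

end CfsgLib.LyExist36
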