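import Cfsg.Agent.LyExist36.Checks
import Cfsg.Agent.LyExist36.Core
import Cfsg.Agent.Ly95.Main

/-!
The centraliser of an involution of the presented Lyons group and the permutation group on the
cosets of the subgroup generated by a, b, c, d, from the order facts of that subgroup.
-/

set_option autoImplicit false
set_option maxRecDepth 100000
set_option linter.style.haveILetI false

namespace CfsgLib.LyExist36

open CfsgLib.LyRep96
open Cfsg (IsLy IsG2 IsNonsplitDoubleCover)
open scoped Matrix

/-- the generated subgroup of type G2 -/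
abbrev HH : Subgroup Cfsg.Spor.Ly := CfsgLib.Ly95.abcd

theorem letter_mem {x : ℕ} (hx : x < 8) : letter x ∈ HH := by
  have h : ∀ g : Cfsg.Spor.Ly.Gen, FreeGroup.of g ∈
      ({Cfsg.Spor.Ly.a, Cfsg.Spor.Ly.b, Cfsg.Spor.Ly.c, Cfsg.Spor.Ly.d} :
        Set (FreeGroup Cfsg.Spor.Ly.Gen)) →
      (PresentedGroup.of g : Cfsg.Spor.Ly) ∈ HH := fun g hg =>
    ⟨_, Subgroup.subset_closure hg, rfl⟩
  have ha := h .a (Or.inl rfl)
  have hb := h .b (Or.inr (Or.inl rfl))
  have hc := h .c (Or.inr (Or.inr (Or.inl rfl)))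
  have hd := h .d (Or.inr (Or.inr (Or.inr rfl)))
  interval_cases x
  · exact ha
  · exact inv_mem ha
  · exact hb
  · exact inv_mem hb
  · exact hc
  · exact inv_mem hc
  · exact hd
  · exact inv_mem hd

theorem el_mem {w : List ℕ} (h : w.all (fun x => Nat.blt x 8) = true) : el w ∈ HH :=
  Subgroup.list_prod_mem _ fun g hg => by
    obtain ⟨x, hx, rfl⟩ := List.mem_map.mp hg
    exact letter_mem (Nat.blt_eq.mp (List.all_eq_true.mp h x hx))

theorem rep_inj [IsSimpleGroup Cfsg.Spor.Ly] : Function.Injective rep := by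
  rw [← MonoidHom.ker_eq_bot_iff]
  refine (Subgroup.Normal.eq_bot_or_eq_top (inferInstance : rep.ker.Normal)).resolve_right fun h => ?_
  exact rep_ne_one (MonoidHom.ker_eq_top_iff.mp h)

/-- the central involution -/
def invT : Cfsg.Spor.Ly := el [0, 0, 0, 0]

theorem good_all : ∀ x, x < 25 → Good x := by
  have g0 : ∀ x, x < 10 → Good x := fun x h => good_base h
  have g10 : Good 10 := good_of_word def10 (fun y hy => g0 y (by fin_cases hy <;> norm_num)) rfl
  have g11 : Good 11 := good_of_word def11 (fun y hy => g0 y (by fin_cases hy <;> norm_num)) rfl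
  have g12 : Good 12 := good_of_word def12
    (fun y hy => (List.eq_of_mem_replicate hy) ▸ g10)
    (by rw [List.map_replicate, List.prod_replicate]; rfl)
  have g13 : Good 13 := good_of_word def13
    (fun y hy => by
      rcases List.mem_append.mp hy with h | h
      · exact g0 y (by fin_cases h <;> norm_num)
      · exact (List.eq_of_mem_replicate h) ▸ g11)
    (by rw [List.map_append, List.prod_append, List.map_replicate, List.prod_replicate]; rfl)
  have g14 : Good 14 := good_of_inv def14 g13 rfl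
  have g15 : Good 15 := good_of_word def15
    (fun y hy => by
      fin_cases hy
      · exact g0 1 (by norm_num)
      · exact g14)
    (by
      simp only [List.map_cons, List.map_nil, List.prod_cons, List.prod_nil, mul_one]
      show (el [0])⁻¹ * eS⁻¹ = letter 1 * eS⁻¹
      simp [el, ← letter_inv 0 (by norm_num), invL])
  have g16 : Good 16 := good_of_word def16
    (fun y hy => (List.eq_of_mem_replicate hy) ▸ g15)
    (by rw [List.map_replicate, List.prod_replicate]; rfl)
  have hset : ∀ i < 8, ∀ z ∈ 16 :: conjIdx.getD i [], Good z := by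
    have hz : (List.range 8).all (fun i => (conjIdx.getD i []).all
        fun z => Nat.blt z 10 || z == 12 || z == 13) = true := by decide
    intro i hi z hzm
    rcases List.mem_cons.mp hzm with rfl | h
    · exact g16
    · have := List.all_eq_true.mp (List.all_eq_true.mp hz i (List.mem_range.mpr hi)) z h
      simp only [Bool.or_eq_true, Nat.blt_eq, beq_iff_eq] at this
      rcases this with (h' | rfl) | rfl
      · exact g0 z h'
      · exact g12
      · exact g13
  have hcv : ∀ i < 8, ∀ z ∈ conjIdx.getD i [], val z = val0 z := by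
    have hz : (List.range 8).all (fun i => (conjIdx.getD i []).all fun z => Nat.blt z 17) = true := by
      decide
    intro i hi z h
    have h' := Nat.blt_eq.mp (List.all_eq_true.mp (List.all_eq_true.mp hz i (List.mem_range.mpr hi)) z h)
    rw [val, if_neg (by omega)]
  intro x hx
  rcases Nat.lt_or_ge x 10 with h | h
  · exact g0 x h
  rcases Nat.lt_or_ge x 17 with h' | h'
  · interval_cases x <;> assumption
  obtain ⟨i, rfl⟩ : ∃ i, x = 17 + i := ⟨x - 17, by omega⟩
  have hi : i < 8 := by omega
  refine good_of_conj (List.all_eq_true.mp defConj i (List.mem_range.mpr hi)) (hset i hi) ?_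
  rw [List.map_congr_left (hcv i hi)]
  show (if 17 ≤ 17 + i ∧ 17 + i < 25 then _ else _) = _
  rw [if_pos ⟨h', hx⟩, Nat.add_sub_cancel_left]
  rfl

/-- the lifted three-cycles -/
def xs (i : Fin 11) : Cfsg.Spor.Ly := if (i : ℕ) < 2 then 1 else val (14 + (i : ℕ))

theorem good_list {w : List ℕ} (h : ∀ x ∈ w, x < 25) : ∀ x ∈ w, Good x :=
  fun x hx => good_all x (h x hx)

theorem eq_of_eqT [IsSimpleGroup Cfsg.Spor.Ly] {w w' : List ℕ} (h : eqT w w' = true)
    (hw : ∀ x ∈ w, x < 25) (hw' : ∀ x ∈ w', x < 25) : (w.map val).prod = (w'.map val).prod :=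
  rep_inj (rep_eq_of_eqT h (good_list hw) (good_list hw'))

theorem invT_eq : invT = ([0, 0, 0, 0].map val).prod := rfl

theorem mem_zpowers_of_oneOrT [IsSimpleGroup Cfsg.Spor.Ly] {w : List ℕ} (h : oneOrT w = true)
    (hw : ∀ x ∈ w, x < 25) : (w.map val).prod ∈ Subgroup.zpowers invT := by
  rw [oneOrT, Bool.or_eq_true] at h
  rcases h with h | h
  · rw [eq_of_eqT h hw (by simp)]
    simp
  · rw [eq_of_eqT h hw (by simp), ← invT_eq]
    exact Subgroup.mem_zpowers _

theorem invT_order [IsSimpleGroup Cfsg.Spor.Ly] : orderOf invT = 2 := by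
  refine orderOf_eq_prime ?_ ?_
  · have h := eq_of_eqT t_order.1 (by simp) (by simp)
    rw [show List.replicate 8 0 = [0, 0, 0, 0] ++ [0, 0, 0, 0] from rfl, List.map_append,
      List.prod_append, List.map_nil, List.prod_nil, ← invT_eq] at h
    rw [pow_two, h]
  · exact rep_ne_of_eqT t_order.2 (good_list (by simp)) (good_list (by simp))

theorem invT_ne [IsSimpleGroup Cfsg.Spor.Ly] : invT ≠ 1 := fun h => by
  have := invT_order
  rw [h, orderOf_one] at this
  omega

theorem invT_mul_self [IsSimpleGroup Cfsg.Spor.Ly] : invT * invT = 1 := by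
  rw [← pow_two, ← invT_order, pow_orderOf_eq_one]

theorem xs_comm [IsSimpleGroup Cfsg.Spor.Ly] (i : Fin 11) : xs i * invT = invT * xs i := by
  unfold xs
  split_ifs with h
  · rw [one_mul, mul_one]
  obtain ⟨j, hj⟩ : ∃ j, (i : ℕ) = j + 2 := ⟨(i : ℕ) - 2, by omega⟩
  have hi := i.isLt
  rw [hj, show 14 + (j + 2) = 16 + j by omega]
  have := eq_of_eqT (List.all_eq_true.mp x_comm j (List.mem_range.mpr (by omega)))
    (by simp; omega) (by simp; omega)
  simpa [invT_eq, mul_assoc] using this

theorem xs_cube [IsSimpleGroup Cfsg.Spor.Ly] (i : Fin 11) (h0 : i ≠ 0) (h1 : i ≠ 1) :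
    xs i ^ 3 ∈ Subgroup.zpowers invT := by
  rw [Ne, Fin.ext_iff] at h0 h1
  obtain ⟨j, hj⟩ : ∃ j, (i : ℕ) = j + 2 := ⟨(i : ℕ) - 2, by simp at h0 h1; omega⟩
  have hi := i.isLt
  rw [xs, if_neg (by omega), hj, show 14 + (j + 2) = 16 + j by omega]
  have := mem_zpowers_of_oneOrT (List.all_eq_true.mp x_cube j (List.mem_range.mpr (by omega)))
    (by simp; omega)
  simpa [pow_succ, mul_assoc] using this

theorem xs_prod [IsSimpleGroup Cfsg.Spor.Ly] (i k : Fin 11) (h0 : i ≠ 0) (h1 : i ≠ 1)
    (k0 : k ≠ 0) (k1 : k ≠ 1) (hik : i ≠ k) : (xs i * xs k) ^ 2 ∈ Subgroup.zpowers invT := by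
  rw [Ne, Fin.ext_iff] at h0 h1 k0 k1 hik
  obtain ⟨j, hj⟩ : ∃ j, (i : ℕ) = j + 2 := ⟨(i : ℕ) - 2, by simp at h0 h1; omega⟩
  obtain ⟨l, hl⟩ : ∃ l, (k : ℕ) = l + 2 := ⟨(k : ℕ) - 2, by simp at k0 k1; omega⟩
  have hi := i.isLt
  have hk := k.isLt
  rw [xs, if_neg (by omega), hj, show 14 + (j + 2) = 16 + j by omega,
    xs, if_neg (by omega), hl, show 14 + (l + 2) = 16 + l by omega]
  have h := List.all_eq_true.mp (List.all_eq_true.mp x_prod j (List.mem_range.mpr (by omega))) l
    (List.mem_range.mpr (by omega))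
  rw [Bool.or_eq_true, beq_iff_eq] at h
  have := mem_zpowers_of_oneOrT (h.resolve_left (by omega)) (by simp; omega)
  simpa [pow_succ, mul_assoc] using this

theorem xs_two [IsSimpleGroup Cfsg.Spor.Ly] : xs 2 ∉ Subgroup.zpowers invT := by
  intro h
  have h1 : Subgroup.zpowers invT ≤ Subgroup.closure {invT} := by
    rw [Subgroup.zpowers_eq_closure]
  obtain ⟨n, hn⟩ := h
  have hx : xs 2 = val 16 := rfl
  have h2 : invT ^ n = 1 ∨ invT ^ n = invT := by
    rw [← zpow_mod_orderOf, invT_order]
    rcases Int.emod_two_eq_zero_or_one n with h | h <;> simp [h]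
  simp only at hn
  rcases h2 with h2 | h2
  · refine rep_ne_of_eqT x_ne.1 (good_list (by simp)) (good_list (by simp)) ?_
    simp [← hx, ← hn, h2]
  · refine rep_ne_of_eqT x_ne.2 (good_list (by simp)) (good_list (by simp)) ?_
    rw [← invT_eq]
    simp [← hx, ← hn, h2]

theorem sWord_eq : el sWord = (el wConj)⁻¹ * invT * el wConj := by
  have h : sWord = iw wConj ++ [0, 0, 0, 0] ++ wConj := by decide +kernel
  rw [h, el_append, el_append, el_iw _ (by decide +kernel)]
  rfl

theorem el_eq_of_sameOK [IsSimpleGroup Cfsg.Spor.Ly] {w w' : List ℕ} (h : sameOK w w' = true) :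
    el w = el w' :=
  rep_inj (rep_eq_of_sameOK h)

theorem kWord_ok : kGens.all (fun p => p.1.all (fun x => Nat.blt x 8) &&
    p.2.all (fun x => Nat.blt x 8)) = true := by
  decide +kernel

theorem small_centralizer [Finite Cfsg.Spor.Ly] [IsSimpleGroup Cfsg.Spor.Ly]
    (hK : Nat.card (HH ⊓ HH.comap (MulAut.conj (el gWord)).toMonoidHom : Subgroup Cfsg.Spor.Ly) ≤ 1008) :
    Nat.card (HH ⊓ Subgroup.centralizer ({el sWord} : Set Cfsg.Spor.Ly) :
      Subgroup Cfsg.Spor.Ly) ≤ 13 := by
  set s := el sWord with hs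
  set K := HH ⊓ HH.map (MulAut.conj s).toMonoidHom with hKdef
  have hss : s * s = 1 := by
    rw [hs, sWord_eq]
    calc (el wConj)⁻¹ * invT * el wConj * ((el wConj)⁻¹ * invT * el wConj) =
          (el wConj)⁻¹ * (invT * invT) * el wConj := by group
      _ = 1 := by rw [invT_mul_self, mul_one, inv_mul_cancel]
  have hmem : ∀ g, g ∈ HH.map (MulAut.conj s).toMonoidHom ↔ s * g * s ∈ HH := by
    intro g
    rw [Subgroup.mem_map_equiv, MulAut.conj_symm_apply, inv_eq_of_mul_eq_one_left hss]
  have h8 : kVal 8 = s := kVal_ge 0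
  have hcast : ∀ (ids w : List ℕ), Nat.beq (runM kTab ids oneS) (runM matL w oneS) = true →
      (ids.map kVal).prod = el w := by
    intro ids w h
    rw [Nat.beq_eq, runK (fun x _ => kGood x), runM_one, ← rep_prod] at h
    exact rep_inj (Units.ext (packM_inj h))
  have hsg : s * (el gWord)⁻¹ ∈ HH := by
    have h := hcast [8] _ s_in_coset
    rw [List.map_singleton, List.prod_singleton, h8, el_append] at h
    rw [h, mul_inv_cancel_right]
    exact el_mem (by decide +kernel)
  have hKle : Nat.card K ≤ 1008 := by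
    refine le_trans (Nat.le_of_eq ?_) hK
    refine congrArg (fun S : Subgroup Cfsg.Spor.Ly => Nat.card S) ?_
    ext g
    rw [hKdef, Subgroup.mem_inf, Subgroup.mem_inf, hmem, Subgroup.mem_comap]
    refine and_congr_right fun _ => ?_
    show s * g * s ∈ HH ↔ el gWord * g * (el gWord)⁻¹ ∈ HH
    have e : s * g * s = s * (el gWord)⁻¹ * (el gWord * g * (el gWord)⁻¹) * (s * (el gWord)⁻¹)⁻¹ := by
      conv_lhs => rw [show s * g * s = s * g * s⁻¹ by rw [inv_eq_of_mul_eq_one_left hss]]
      group
    rw [e, HH.mul_mem_cancel_right (inv_mem hsg), HH.mul_mem_cancel_left hsg]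
  have hgen : ∀ j < 4, kVal j ∈ K := by
    intro j hj
    have h1 := List.all_eq_true.mp kWord_ok (kGens.getD j ([], []))
      (by rw [List.getD_eq_getElem _ _ (k_card.2 ▸ hj)]; exact List.getElem_mem _)
    rw [Bool.and_eq_true] at h1
    rw [kVal_lt j hj]
    refine ⟨el_mem (by rw [kLetters, if_pos hj]; exact h1.1), (hmem _).mpr ?_⟩
    have h2 := hcast [8, j, 8] _ (List.all_eq_true.mp k_images j (List.mem_range.mpr hj))
    rw [List.map_cons, List.map_cons, List.map_singleton, List.prod_cons, List.prod_cons,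
      List.prod_singleton, h8, kVal_lt j hj, ← mul_assoc] at h2
    rw [h2]
    exact el_mem h1.2
  have hinv : ∀ j < 8, kVal (if j < 4 then j + 4 else j - 4) = (kVal j)⁻¹ := by
    intro j hj
    split_ifs with h
    · exact kVal_inv j h
    · have := kVal_inv (j - 4) (by omega)
      rw [Nat.sub_add_cancel (by omega)] at this
      rw [this, inv_inv]
  have hids : kIds.all (fun ids => ids.all fun j => Nat.blt j 8) = true := by decide +kernel
  let k : Fin kIds.length → Cfsg.Spor.Ly := fun i => (kIds[i].map kVal).prod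
  have hkmem : ∀ i, k i ∈ K := by
    intro i
    refine Subgroup.list_prod_mem _ fun g hg => ?_
    obtain ⟨j, hj, rfl⟩ := List.mem_map.mp hg
    have hj8 := Nat.blt_eq.mp (List.all_eq_true.mp (List.all_eq_true.mp hids kIds[i]
      (List.getElem_mem _)) j hj)
    rcases Nat.lt_or_ge j 4 with h | h
    · exact hgen j h
    · have := inv_mem (hgen (j - 4) (by omega))
      rwa [← kVal_inv (j - 4) (by omega), Nat.sub_add_cancel h] at this
  have hkinv : ∀ ids : List ℕ, (∀ j ∈ ids, j < 8) →
      ((kInv ids).map kVal).prod = (ids.map kVal).prod⁻¹ := by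
    intro ids hl
    rw [List.prod_inv_reverse, kInv, List.map_reverse, List.map_map, List.map_map]
    refine congrArg (fun l : List Cfsg.Spor.Ly => l.reverse.prod) (List.map_congr_left fun j hj => ?_)
    exact hinv j (hl j hj)
  have hkey : ∀ i : Fin kIds.length, runM kTab (kIds[i] ++ [8] ++ kInv kIds[i]) (B ^ 7) =
      packV ((Pi.single 7 1) ᵥ* (rep (k i * s * (k i)⁻¹)).1) := by
    intro i
    have hv : packV (Pi.single (7 : Fin 111) (1 : ZMod 5)) = B ^ 7 := by decide +kernel
    have hm : kIds[i] ∈ kIds := List.getElem_mem _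
    rw [← hv, runK_packV, List.map_append, List.map_append, List.prod_append, List.prod_append,
      List.map_singleton, List.prod_singleton, h8,
      hkinv kIds[i] fun j hj => Nat.blt_eq.mp (List.all_eq_true.mp (List.all_eq_true.mp hids _ hm) j hj)]
  have hnd : kVecs.Pairwise (· < ·) := by
    have : ∀ l, incr l = true → List.IsChain (· < ·) l := by
      intro l
      induction l with
      | nil => intro _; exact List.IsChain.nil
      | cons x l ih =>
        cases l with
        | nil => intro _; exact List.IsChain.singleton x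
        | cons y l =>
          intro h
          rw [incr, Bool.and_eq_true, Nat.blt_eq] at h
          exact List.IsChain.cons_cons h.1 (ih h.2)
    exact List.isChain_iff_pairwise.mp (this _ k_vecs_incr)
  have hd : Function.Injective fun i => k i * s * (k i)⁻¹ := by
    intro i j hij
    have hnd' : (kIds.map fun ids => runM kTab (ids ++ [8] ++ kInv ids) (B ^ 7)).Nodup := by
      rw [k_vecs]
      exact hnd.imp fun h => Nat.ne_of_lt h
    refine Fin.ext ((hnd'.getElem_inj_iff (i := i) (j := j) (hi := by simp) (hj := by simp)).mp ?_)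
    simp only [List.getElem_map]
    have hi' := hkey i
    have hj' := hkey j
    simp only [Fin.getElem_fin] at hi' hj'
    rw [hi', hj']
    simp only at hij
    rw [hij]
  have h := card_inf_centralizer_le HH s hKle k hkmem hd
  rw [k_card.1] at h
  omega

theorem exists_cover [Finite Cfsg.Spor.Ly] [IsSimpleGroup Cfsg.Spor.Ly]
    (hG : Nat.card Cfsg.Spor.Ly = 51765179004000000) (hi : HH.index = 8835156)
    (hK : Nat.card (HH ⊓ HH.comap (MulAut.conj (el gWord)).toMonoidHom : Subgroup Cfsg.Spor.Ly) ≤ 1008) :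
    ∃ t : Cfsg.Spor.Ly, orderOf t = 2 ∧
      IsNonsplitDoubleCover (Subgroup.centralizer ({t} : Set Cfsg.Spor.Ly)) (alternatingGroup (Fin 11)) :=
  ⟨invT, invT_order, cover_of_gens invT_order hG xs xs_comm xs_cube xs_prod xs_two (el [0, 0])
    (by simp [invT, el, pow_two, mul_assoc]) (centralizer_small HH hi (el sWord)
      (isConj_iff.mpr ⟨el wConj, by rw [sWord_eq]; group⟩) (small_centralizer hK))⟩

theorem exists_perm_group [Finite Cfsg.Spor.Ly] [IsSimpleGroup Cfsg.Spor.Ly]
    (hG : Nat.card Cfsg.Spor.Ly = 51765179004000000) (hi : HH.index = 8835156)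
    (hH : IsSimpleGroup HH) (hHc : Nat.card HH = 5859000000)
    (hK : Nat.card (HH ⊓ HH.comap (MulAut.conj (el gWord)).toMonoidHom : Subgroup Cfsg.Spor.Ly) ≤ 1008) :
    ∃ P : Subgroup (Equiv.Perm (Fin 8835156)), IsLy P ∧
      MulAction.IsPretransitive P (Fin 8835156) ∧
      IsG2 (MulAction.stabilizer P (0 : Fin 8835156)) ∧
      ∃ t : P, orderOf t = 2 ∧
        IsNonsplitDoubleCover (Subgroup.centralizer ({t} : Set P)) (alternatingGroup (Fin 11)) :=
  exists_lyons hG HH hi hH hHc invT_order xs xs_comm xs_cube xs_prod xs_two (el [0, 0])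
    (by simp [invT, el, pow_two, mul_assoc]) (el sWord)
    (isConj_iff.mpr ⟨el wConj, by rw [sWord_eq]; group⟩) (small_centralizer hK)

end CfsgLib.LyExist36
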