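import Cfsg.Agent.LyExist36.Main
import Cfsg.Agent.LyG2.Model

/-!
The permutation group and the involution centraliser from the order and index facts.
-/

set_option autoImplicit false
set_option linter.style.haveILetI false

namespace CfsgLib.LyExist36

open Cfsg (IsLy IsG2 IsNonsplitDoubleCover)

theorem card_abcd : Nat.card HH = 5859000000 := by
  rw [show HH = CfsgLib.LyG2.incl.range from CfsgLib.LyG2.incl_range.symm]
  exact CfsgLib.LyG2.card_range

theorem isSimple_abcd : IsSimpleGroup HH := by
  rw [show HH = CfsgLib.LyG2.incl.range from CfsgLib.LyG2.incl_range.symm]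
  exact (MonoidHom.ofInjective CfsgLib.LyG2.incl_injective).symm.isSimpleGroup_congr.mpr
    CfsgLib.LyG2.isSimple

/-- The cover from the order, simplicity and the node bound. -/
theorem exists_cover_of_isLy (hLy : IsLy Cfsg.Spor.Ly) (hi : HH.index = 8835156)
    (hK : Nat.card (HH ⊓ HH.comap (MulAut.conj (el gWord)).toMonoidHom :
      Subgroup Cfsg.Spor.Ly) ≤ 1008) :
    ∃ t : Cfsg.Spor.Ly, orderOf t = 2 ∧
      IsNonsplitDoubleCover (Subgroup.centralizer ({t} : Set Cfsg.Spor.Ly))
        (alternatingGroup (Fin 11)) := by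
  haveI := hLy.1
  haveI : Finite Cfsg.Spor.Ly := Nat.finite_of_card_ne_zero (by rw [hLy.2]; norm_num)
  exact exists_cover hLy.2 hi hK

/-- The statement from the order, simplicity and the node bound. -/
theorem exists_perm_group_of_isLy (hLy : IsLy Cfsg.Spor.Ly) (hi : HH.index = 8835156)
    (hK : Nat.card (HH ⊓ HH.comap (MulAut.conj (el gWord)).toMonoidHom :
      Subgroup Cfsg.Spor.Ly) ≤ 1008) :
    ∃ P : Subgroup (Equiv.Perm (Fin 8835156)), IsLy P ∧
      MulAction.IsPretransitive P (Fin 8835156) ∧
      IsG2 (MulAction.stabilizer P (0 : Fin 8835156)) ∧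
      ∃ t : P, orderOf t = 2 ∧
        IsNonsplitDoubleCover (Subgroup.centralizer ({t} : Set P)) (alternatingGroup (Fin 11)) := by
  haveI := hLy.1
  haveI : Finite Cfsg.Spor.Ly := Nat.finite_of_card_ne_zero (by rw [hLy.2]; norm_num)
  exact exists_perm_group hLy.2 hi isSimple_abcd card_abcd hK

end CfsgLib.LyExist36
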