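import Cfsg.Agent.LyRep96.Rep
import Cfsg.Agent.LyExist36.Data0
import Cfsg.Agent.LyExist36.Data1
import Cfsg.Agent.LyExist36.Conj

/-!
Elements of the presented Lyons group given by words, with packed matrices of the derived ones.
-/

set_option autoImplicit false
set_option maxRecDepth 100000

namespace CfsgLib.LyExist36

open CfsgLib.LyRep96

/-- the element of a word in letters -/
def el (w : List ℕ) : Cfsg.Spor.Ly := (w.map letter).prod

/-- the inverse word -/
def iw (w : List ℕ) : List ℕ := (w.map invL).reverse

theorem el_append (v w : List ℕ) : el (v ++ w) = el v * el w := by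
  simp [el]

theorem letter_inv (x : ℕ) (hx : x < 78) : letter (invL x) = (letter x)⁻¹ := by
  unfold letter invL
  by_cases he : x % 2 = 0
  · rw [if_pos he, show min (x + 1) 77 = x + 1 by omega, show min x 77 = x by omega, if_pos he,
      if_neg (by omega), show (x + 1) / 2 = x / 2 by omega]
  · rw [if_neg he, show min (x - 1) 77 = x - 1 by omega, show min x 77 = x by omega, if_neg he,
      if_pos (by omega), show (x - 1) / 2 = x / 2 by omega, inv_inv]

theorem el_iw : ∀ w : List ℕ, w.all (fun x => Nat.blt x 78) = true → el (iw w) = (el w)⁻¹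
  | [], _ => by simp [el, iw]
  | x :: w, h => by
    rw [List.all_cons, Bool.and_eq_true] at h
    have hx : x < 78 := Nat.blt_eq.mp h.1
    have e : iw (x :: w) = iw w ++ [invL x] := by simp [iw]
    rw [e, el_append, el_iw w h.2]
    simp [el, letter_inv x hx]

/-- the packed matrix of an index: ten letters and the derived elements -/
def tab : ℕ → List ℕ
  | 10 => der10
  | 11 => der11
  | 12 => der12
  | 13 => der13
  | 14 => der14
  | 15 => der15
  | 16 => der16
  | 17 => der17
  | 18 => der18
  | 19 => der19
  | 20 => der20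
  | 21 => der21
  | 22 => der22
  | 23 => der23
  | 24 => der24
  | x => matL x

/-- the first commutator-like element -/
def c₁ : Cfsg.Spor.Ly := el [0, 0, 0, 0, 7, 4, 8, 8, 0, 7, 4, 0, 0, 0, 0, 5, 6, 1, 9, 9, 5, 6]

/-- the second commutator-like element -/
def c₂ : Cfsg.Spor.Ly := el [0, 0, 0, 0, 8, 9, 5, 8, 2, 6, 5, 0, 0, 0, 0, 4, 7, 3, 9, 4, 8, 9]

/-- a centralising element -/
def eR : Cfsg.Spor.Ly := c₁ ^ 6

/-- a centralising element -/
def eS : Cfsg.Spor.Ly := el [4, 7, 3, 9, 4, 8, 9] * c₂ ^ 12

/-- the first lifted three-cycle -/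
def eX : Cfsg.Spor.Ly := ((el [0])⁻¹ * eS⁻¹) ^ 7

/-- the conjugators of the lifted three-cycles -/
def conjIdx : List (List ℕ) :=
  [[0], [13, 13, 0], [13, 13, 8], [12, 0, 0, 13], [12, 0, 8, 13], [12, 0, 8, 2, 13],
    [0, 12, 13, 13, 8, 12], [0, 13, 2, 12, 0, 12]]

/-- the elements of the first indices -/
def val0 : ℕ → Cfsg.Spor.Ly
  | 10 => c₁
  | 11 => c₂
  | 12 => eR
  | 13 => eS
  | 14 => eS⁻¹
  | 15 => (el [0])⁻¹ * eS⁻¹
  | 16 => eX
  | x => letter x

/-- the elements of all indices -/
def val (x : ℕ) : Cfsg.Spor.Ly :=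
  if 17 ≤ x ∧ x < 25 then
    ((conjIdx.getD (x - 17) []).map val0).prod⁻¹ * eX *
      ((conjIdx.getD (x - 17) []).map val0).prod
  else val0 x

/-- the table is right at an index -/
def Good (x : ℕ) : Prop := matOf (tab x) = (rep (val x)).1

theorem tab_shapes : (List.range 25).all (fun x => shapeOK (tab x)) = true := by
  decide +kernel

theorem tab_shape (x : ℕ) : shapeOK (tab x) = true := by
  rcases Nat.lt_or_ge x 25 with h | h
  · exact List.all_eq_true.mp tab_shapes x (List.mem_range.mpr h)
  · have e : tab x = matL x := by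
      obtain ⟨n, rfl⟩ : ∃ n, x = n + 25 := ⟨x - 25, by omega⟩
      rfl
    rw [e]
    exact shape_all x

/-- two words in indices act alike -/
def eqT (w w' : List ℕ) : Bool := Nat.beq (runM tab w oneS) (runM tab w' oneS)

theorem runT {w : List ℕ} (hw : ∀ x ∈ w, Good x) :
    runM tab w oneS = packM (rep (w.map val).prod).1 := by
  rw [← packM_one, runM_packM tab tab_shape, one_mul]
  congr 1
  induction w with
  | nil => simp
  | cons x w ih =>
    rw [List.map_cons, List.prod_cons, List.map_cons, List.prod_cons, map_mul, Units.val_mul,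
      ih fun y hy => hw y (List.mem_cons_of_mem _ hy), hw x List.mem_cons_self]

theorem rep_eq_of_eqT {w w' : List ℕ} (h : eqT w w' = true) (hw : ∀ x ∈ w, Good x)
    (hw' : ∀ x ∈ w', Good x) : rep (w.map val).prod = rep (w'.map val).prod := by
  rw [eqT, Nat.beq_eq, runT hw, runT hw'] at h
  exact Units.ext (packM_inj h)

theorem rep_ne_of_eqT {w w' : List ℕ} (h : eqT w w' = false) (hw : ∀ x ∈ w, Good x)
    (hw' : ∀ x ∈ w', Good x) : (w.map val).prod ≠ (w'.map val).prod := fun e => by
  rw [eqT, runT hw, runT hw', e, Nat.beq_refl] at h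
  exact Bool.noConfusion h

theorem good_base {x : ℕ} (h : x < 10) : Good x := by
  show matOf (tab x) = (rep (val x)).1
  rw [show val x = letter x by interval_cases x <;> rfl, rep_letter]
  interval_cases x <;> rfl

/-- a new index that acts as a word in earlier ones -/
theorem good_of_word {x : ℕ} {w : List ℕ} (h : eqT [x] w = true) (hw : ∀ y ∈ w, Good y)
    (hv : val x = (w.map val).prod) : Good x := by
  rw [eqT, Nat.beq_eq, runT hw] at h
  show matOf (tab x) = (rep (val x)).1
  rw [hv]
  refine packM_inj ?_
  rw [← h, ← packM_one, runM_packM tab tab_shape, one_mul, List.map_singleton, List.prod_singleton]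

/-- a new index that inverts an earlier one -/
theorem good_of_inv {x y : ℕ} (h : eqT [x, y] [] = true) (hy : Good y)
    (hv : val x = (val y)⁻¹) : Good x := by
  rw [eqT, Nat.beq_eq, ← packM_one, runM_packM tab tab_shape, runM_packM tab tab_shape, one_mul,
    one_mul, List.map_nil, List.prod_nil] at h
  have h1 := packM_inj h
  simp only [List.map_cons, List.map_nil, List.prod_cons, List.prod_nil, mul_one] at h1
  rw [hy] at h1
  show matOf (tab x) = (rep (val x)).1
  rw [hv, map_inv]
  exact Units.eq_inv_of_mul_eq_one_right h1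

/-- a new index that is conjugate to an earlier one by a word -/
theorem good_of_conj {x y : ℕ} {w : List ℕ} (h : eqT (w ++ [x]) (y :: w) = true)
    (hw : ∀ z ∈ y :: w, Good z) (hv : val x = (w.map val).prod⁻¹ * val y * (w.map val).prod) :
    Good x := by
  rw [eqT, Nat.beq_eq, runT hw, ← packM_one, runM_packM tab tab_shape, one_mul, List.map_append,
    List.prod_append, List.map_singleton, List.prod_singleton] at h
  have h1 := packM_inj h
  have h2 : ∀ v : List ℕ, (∀ z ∈ v, Good z) →
      (v.map fun z => matOf (tab z)).prod = (rep (v.map val).prod).1 := by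
    intro v
    induction v with
    | nil => intro _; simp
    | cons z v ih =>
      intro hz
      simp only [List.map_cons, List.prod_cons, map_mul, Units.val_mul]
      rw [hz z List.mem_cons_self, ih fun u hu => hz u (List.mem_cons_of_mem _ hu)]
  rw [h2 w fun z hz => hw z (List.mem_cons_of_mem _ hz), List.map_cons, List.prod_cons] at h1
  show matOf (tab x) = (rep (val x)).1
  rw [hv, map_mul, map_mul, map_inv]
  calc matOf (tab x) = ((rep (w.map val).prod)⁻¹ * rep (w.map val).prod :
        GL (Fin 111) (ZMod 5)).1 * matOf (tab x) := by rw [inv_mul_cancel, Units.val_one, one_mul]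
    _ = ((rep (w.map val).prod)⁻¹).1 * ((rep (w.map val).prod).1 * matOf (tab x)) := by
      rw [Units.val_mul, Matrix.mul_assoc]
    _ = _ := by
      rw [h1, map_mul, Units.val_mul, ← Matrix.mul_assoc, ← Units.val_mul]
      rfl

end CfsgLib.LyExist36
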